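import Groth.Agent.Lib.BlowPB.Frame
import Groth.Agent.Lib.Cyc.PB.Univ
import Groth.Agent.H26.BlowPerfect
import Groth.Agent.Lib.ClSub.Cartier
import Groth.Agent.Lib.Synt92.KRImm
import Groth.Agent.Lib.BlowUpExists.Cover
import Groth.Prelude.Def_RegImm

/-!
# The blow-up in a Koszul-regular section ideal inside the projective bundle
-/

set_option autoImplicit false
set_option linter.style.haveILetI false
set_option maxHeartbeats 800000
universe u

open CategoryTheory CategoryTheory.Limits AlgebraicGeometry Opposite TopologicalSpace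
open ZarCoh.FlatBC.PullbackSections
open Groth.Agent.Lib.Wiebe.Link Groth.Agent.Lib.TorObstruction.Cube Groth.Agent.Lib.Wiebe.Exterior

namespace Groth.Agent.Lib.BlowPB.Chart

open Groth.Agent.Lib TensorMod TensorMod.Dual TensorMod.Gen TensorMod.Basis
open Groth.Agent.Lib.Cyc.PB Groth.Agent.Lib.BlowUpExists

/-- The universal-property data of the embedding of a blow-up into a projective bundle. -/
structure Emb {X X' P : Scheme.{u}} (E : X.Modules) (u : E ⟶ Coh.structureModule X)
    (J : X.IdealSheafData) (π : P ⟶ X) (O1 : P.Modules)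
    (q : (Scheme.Modules.pullback π).obj E ⟶ O1) (f : X' ⟶ X) (j : X' ⟶ P) where
  bundle : KRR.IsProjBundle π E O1 q
  blow : BlowUp.IsBlowUp f J
  over' : j ≫ π = f
  iso : (Scheme.Modules.pullback j).obj O1 ≅ _root_.ClSub.idealMod (BlowUp.exceptional f J)
  comp : (Scheme.Modules.pullbackCongr over').inv.app E ≫ (Scheme.Modules.pullbackComp j π).inv.app E ≫
        (Scheme.Modules.pullback j).map q ≫ iso.hom ≫ _root_.ClSub.idealModι (BlowUp.exceptional f J) =
      (Scheme.Modules.pullback f).map u ≫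
        ((Scheme.Modules.pullbackPushforwardAdjunction f).homEquiv _ _).symm
          (SheafOfModules.unitToPushforwardObjUnit f.toRingCatSheafHom)

/-- An isomorphism carries generators to generators. -/
theorem isGen_map {T : Scheme.{u}} {L M : T.Modules} (i : L ≅ M) {W : T.Opens} {x : Γ(L, W)}
    (hx : IsGen L W x) : IsGen M W (i.hom.app W x) := fun V hV => by
  refine (iff_of_eq (congrArg Function.Bijective (funext fun a => ?_))).1
    ((ConcreteCategory.bijective_of_isIso (i.hom.app V)).comp (hx V hV))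
  show i.hom.app V (a • rs L hV x) = a • rs M hV (i.hom.app W x)
  rw [Scheme.Modules.Hom.app_smul, HomGlue.rs_app]

/-- The canonical map `f^*O_X ⟶ O_{X'}` on pulled back sections. -/
theorem transpose_app {X X' : Scheme.{u}} (f : X' ⟶ X) {U : X.Opens} {W : X'.Opens} (hW : W ≤ f ⁻¹ᵁ U)
    (s : Γ(X, U)) :
    (((Scheme.Modules.pullbackPushforwardAdjunction f).homEquiv _ _).symm
        (SheafOfModules.unitToPushforwardObjUnit f.toRingCatSheafHom)).app W
      (pbRes f (Coh.structureModule X) hW (show Γ(Coh.structureModule X, U) from s)) =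
      f.appLE U W hW s := by
  set φ := ((Scheme.Modules.pullbackPushforwardAdjunction f).homEquiv _ _).symm
        (SheafOfModules.unitToPushforwardObjUnit f.toRingCatSheafHom)
  have h : (Scheme.Modules.pullbackPushforwardAdjunction f).unit.app (Coh.structureModule X) ≫
      (Scheme.Modules.pushforward f).map φ = SheafOfModules.unitToPushforwardObjUnit f.toRingCatSheafHom :=
    (Adjunction.homEquiv_unit _ _ _ _).symm.trans (Equiv.apply_symm_apply _ _)
  have h1 : φ.app (f ⁻¹ᵁ U) (((Scheme.Modules.pullbackPushforwardAdjunction f).unit.app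
      (Coh.structureModule X)).app U (show Γ(Coh.structureModule X, U) from s)) = f.app U s :=
    congr(Scheme.Modules.Hom.app $h U (show Γ(Coh.structureModule X, U) from s))
  refine (HomGlue.rs_app φ hW _).symm.trans ?_
  exact congrArg (rs (Coh.structureModule X') hW) h1

variable {X X' P : Scheme.{u}} {E : X.Modules} {u' : E ⟶ Coh.structureModule X} {J : X.IdealSheafData}
  {π : P ⟶ X} {O1 : P.Modules} {q : (Scheme.Modules.pullback π).obj E ⟶ O1} {f : X' ⟶ X} {j : X' ⟶ P}
  (D : Emb E u' J π O1 q f j)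

section Frame

variable {U : X.affineOpens} {n : ℕ} (b : Fin n → Γ(E, U.1))

variable (u') in
/-- The image of the frame. -/
noncomputable abbrev img (k : Fin n) : Γ(X, U.1) := u'.app U.1 (b k)

/-- The pulled back sections of `O(1)`, seen in the ideal. -/
noncomputable def msec (k : Fin n) (W : X'.Opens) (hW : W ≤ f ⁻¹ᵁ U.1) :
    Γ(_root_.ClSub.idealMod (BlowUp.exceptional f J), W) :=
  D.iso.hom.app W (pbRes j O1 (Univ.le_preimage_of_comp D.over' hW) (Univ.sec q b k))

theorem rs_msec (k : Fin n) {W W' : X'.Opens} (hW : W ≤ f ⁻¹ᵁ U.1) (h : W' ≤ W) :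
    rs _ h (msec D b k W hW) = msec D b k W' (h.trans hW) := by
  rw [msec, HomGlue.rs_app, Sect.rs_pbRes]
  rfl

theorem msec_val (k : Fin n) {W : X'.Opens} (hW : W ≤ f ⁻¹ᵁ U.1) :
    (_root_.ClSub.idealModι (BlowUp.exceptional f J)).app W (msec D b k W hW) =
      f.appLE U.1 W hW (img u' b k) := by
  have h2 := congr(Scheme.Modules.Hom.app $(D.comp) W (pbRes f E hW (b k)))
  have hW' := Univ.le_preimage_of_comp D.over' hW
  have h1 := DescAlg.PbSec.R_pbRes j D.over' E (le_refl (π ⁻¹ᵁ U.1)) hW' (b k)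
  rw [DescAlg.PbSec.R_eq] at h1
  have e1 : (DescAlg.PbSec.tr j D.over' E).hom.app W ≫ (DescAlg.PbSec.tr j D.over' E).inv.app W = 𝟙 _ := by
    rw [← Scheme.Modules.Hom.comp_app, Iso.hom_inv_id]
    rfl
  have e2 := ConcreteCategory.congr_hom e1 (pbRes j ((Scheme.Modules.pullback π).obj E)
    hW' (pbRes π E le_rfl (b k)))
  rw [ConcreteCategory.comp_apply] at e2
  have h3 : ((Scheme.Modules.pullbackCongr D.over').inv.app E ≫ (Scheme.Modules.pullbackComp j π).inv.app E ≫
      (Scheme.Modules.pullback j).map q ≫ D.iso.hom ≫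
        _root_.ClSub.idealModι (BlowUp.exceptional f J)).app W (pbRes f E hW (b k)) =
      (_root_.ClSub.idealModι (BlowUp.exceptional f J)).app W (msec D b k W hW) := by
    show ((DescAlg.PbSec.tr j D.over' E).inv ≫ (Scheme.Modules.pullback j).map q ≫ D.iso.hom ≫ _).app W _ = _
    rw [← h1]
    simp only [Scheme.Modules.Hom.comp_app, ConcreteCategory.comp_apply]
    refine congrArg ((_root_.ClSub.idealModι (BlowUp.exceptional f J)).app W) ?_
    refine congrArg (D.iso.hom.app W) ?_
    exact (congrArg (((Scheme.Modules.pullback j).map q).app W) e2).trans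
      (DescAlg.PbSec.pbRes_natural j q _ _)
  refine h3.symm.trans (h2.trans ?_)
  rw [Scheme.Modules.Hom.comp_app, ConcreteCategory.comp_apply, DescAlg.PbSec.pbRes_natural]
  exact transpose_app f hW _

include D in
theorem img_mem (hJU : J.ideal U = Ideal.span (Set.range (img u' b))) (k : Fin n) :
    img u' b k ∈ J.ideal U := hJU ▸ Ideal.subset_span ⟨k, rfl⟩

/-- The preimage of a locus is a chart of the blow-up. -/
theorem preimage_locus (hJU : J.ideal U = Ideal.span (Set.range (img u' b))) (l : Fin n) :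
    j ⁻¹ᵁ Univ.locus q b l = chartOpen f (⟨U, img u' b l, img_mem D b hJU l⟩ : Idx J) := by
  ext z
  constructor
  · intro hz
    set O := j ⁻¹ᵁ Univ.locus q b l
    have hO : O ≤ f ⁻¹ᵁ U.1 := fun x hx => by
      have h' : π (j x) ∈ U.1 := Univ.locus_le (q := q) b l hx
      rw [← Scheme.Hom.comp_apply, D.over'] at h'
      exact h'
    have hg := Sect.isGen_pbRes j (Univ.isGen_locus (q := q) b l) (le_refl O)
    rw [Sect.pbRes_rs] at hg
    have hm : IsGen _ O (msec D b l O hO) := isGen_map D.iso hg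
    obtain ⟨W, hW, hzW, hWO⟩ := exists_isAffineOpen_mem_and_subset (show z ∈ O from hz)
    refine ⟨⟨W, hW⟩, fun x hx => hO (hWO hx), hzW, le_antisymm (fun x hx => ?_) ?_⟩
    · obtain ⟨m, rfl⟩ := (ClSub.Sections.mem_range_idealModι_app_affine_iff _ ⟨W, hW⟩ x).2 hx
      obtain ⟨c, hc⟩ := (hm W hWO).2 m
      refine Ideal.mem_span_singleton'.2 ⟨c, ?_⟩
      rw [← hc]
      show _ = (_root_.ClSub.idealModι (BlowUp.exceptional f J)).app W (c • rs _ _ _)
      rw [Scheme.Modules.Hom.app_smul, rs_msec, msec_val]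
      rfl
    · rw [Ideal.span_singleton_le_iff_mem]
      exact (ClSub.Sections.mem_range_idealModι_app_affine_iff _ ⟨W, hW⟩ _).1
        ⟨_, msec_val D b l (fun x hx => hO (hWO hx))⟩
  · intro hz
    have hfz : f z ∈ U.1 := by
      obtain ⟨W, hWU, hzW, -⟩ := hz
      exact hWU hzW
    have hjz : π (j z) ∈ U.1 := by rw [← Scheme.Hom.comp_apply, D.over']; exact hfz
    obtain ⟨W₀, e₀, hzW₀, he₀⟩ := isInvertible_iff.1 (Univ.invertible D.bundle) (j z)
    obtain ⟨W, hWU, hzW, hWle, hW⟩ :=
      GenAt.exists_le hz (O := j ⁻¹ᵁ (W₀ ⊓ π ⁻¹ᵁ U.1)) ⟨hzW₀, hjz⟩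
    have hW₀ : W.1 ≤ j ⁻¹ᵁ W₀ := fun x hx => (hWle hx).1
    have hg₀ : IsGen _ W.1 (D.iso.hom.app W.1 (pbRes j O1 hW₀ e₀)) :=
      isGen_map D.iso (Sect.isGen_pbRes j he₀ hW₀)
    obtain ⟨c, hc⟩ := (hg₀ W.1 le_rfl).2 (msec D b l W.1 hWU)
    simp only [rs_self] at hc
    set t : Γ(X', W.1) :=
      (_root_.ClSub.idealModι (BlowUp.exceptional f J)).app W.1 (D.iso.hom.app W.1 (pbRes j O1 hW₀ e₀))
    have ht : t ∈ (BlowUp.exceptional f J).ideal W :=
      (ClSub.Sections.mem_range_idealModι_app_affine_iff _ W t).1 ⟨_, rfl⟩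
    have hct : f.appLE U.1 W.1 hWU (img u' b l) = c * t := by
      rw [← msec_val D b l hWU, ← hc, Scheme.Modules.Hom.app_smul]
      rfl
    have hnzd := gen_mem_nonZeroDivisors D.blow.1 hW
    obtain ⟨d, hd⟩ := Ideal.mem_span_singleton'.1 (hW ▸ ht)
    have hcu : IsUnit c := by
      refine IsUnit.of_mul_eq_one d ((mul_cancel_right_mem_nonZeroDivisors hnzd).1 ?_)
      rw [mul_assoc, one_mul]
      exact (congrArg (c * ·) hd).trans hct.symm
    refine Univ.mem_locus b D.bundle j (Univ.le_preimage_of_comp D.over' hWU) ?_ z hzW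
    have hgen := isGen_map D.iso.symm (hc ▸ GenLocal.isGen_smul hg₀ hcu)
    have e1 : D.iso.hom.app W.1 ≫ D.iso.inv.app W.1 = 𝟙 _ := by
      rw [← Scheme.Modules.Hom.comp_app, Iso.hom_inv_id]
      rfl
    have e2 := ConcreteCategory.congr_hom e1
      (pbRes j O1 (Univ.le_preimage_of_comp D.over' hWU) (Univ.sec q b l))
    rw [ConcreteCategory.comp_apply] at e2
    exact e2 ▸ hgen

end Frame

/-- Over an open on which `E` has empty frame the bundle is empty. -/
theorem not_mem_of_frame_zero {U : X.Opens} (e : Fin 0 → Γ(E, U)) (he : IsBasis e)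
    (hP : KRR.IsProjBundle π E O1 q) (x : P) : π x ∉ U := by
  intro hx
  set i := P.fromSpecResidueField x
  have hU : (⊤ : (Spec (P.residueField x)).Opens) ≤ (i ≫ π) ⁻¹ᵁ U := fun z _ => by
    show π (i z) ∈ U
    rw [show i z = x from Scheme.fromSpecResidueField_apply _ _]
    exact hx
  obtain ⟨W, g, hxW, hg⟩ := isInvertible_iff.1 (Univ.invertible hP) x
  have hW : (⊤ : (Spec (P.residueField x)).Opens) ≤ i ⁻¹ᵁ W := fun z _ => by
    show i z ∈ W
    rw [show i z = x from Scheme.fromSpecResidueField_apply _ _]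
    exact hxW
  have hgen := Sect.isGen_pbRes i hg hW
  let s := (Scheme.Modules.pullbackCongr (rfl : i ≫ π = i ≫ π)).inv.app E ≫
    (Scheme.Modules.pullbackComp i π).inv.app E ≫ (Scheme.Modules.pullback i).map q ≫ 𝟙 _
  haveI := hP.epi
  haveI : PreservesColimitsOfSize.{0, 0} (Scheme.Modules.pullback i) :=
    (Scheme.Modules.pullbackPushforwardAdjunction i).leftAdjoint_preservesColimits
  have hs : Epi s := by
    haveI : Epi ((Scheme.Modules.pullback i).map q) := inferInstance
    infer_instance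
  have hs0 : s = 0 := Sect.hom_ext_basis (i ≫ π) hU he fun k => k.elim0
  have hid : 𝟙 ((Scheme.Modules.pullback i).obj O1) = 0 := by
    rw [← cancel_epi s, Category.comp_id, comp_zero, hs0]
  have h0 : pbRes i O1 hW g = 0 := by
    have := congrArg (fun φ => φ.app ⊤ (pbRes i O1 hW g)) hid
    exact this
  have h10 : (1 : Γ(Spec (P.residueField x), ⊤)) = 0 := (hgen ⊤ le_rfl).1 (by
    show (1 : Γ(Spec (P.residueField x), ⊤)) • rs _ _ _ = (0 : Γ(Spec (P.residueField x), ⊤)) • rs _ _ _
    rw [rs_self, h0, smul_zero, smul_zero])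
  have := congrArg (Scheme.ΓSpecIso (P.residueField x)).hom h10
  rw [map_one, map_zero] at this
  exact one_ne_zero this

section Chart

variable {U : X.affineOpens} {n : ℕ} (b : Fin (n + 1) → Γ(E, U.1))

theorem nzd_map {A B : Type u} [CommRing A] [CommRing B] (θ : A ≃+* B) {x : A}
    (hx : x ∈ nonZeroDivisors A) : θ x ∈ nonZeroDivisors B := by
  refine Ideal.EffCartier.mem_nonZeroDivisors_of_eq_zero fun y hy => ?_
  obtain ⟨y, rfl⟩ := θ.surjective y
  rw [← map_mul, map_eq_zero_iff _ θ.injective] at hy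
  rw [(mul_left_mem_nonZeroDivisors_eq_zero_iff hx).mp hy, map_zero]

theorem eq_map_mul {A B : Type u} [CommRing A] [CommRing B] (θ : A ≃+* B) {x y z : A}
    (h : x * y = z) : θ x * θ y = θ z := by
  rw [← map_mul, h]

theorem pres_X {A : Type u} [CommRing A] (a : Fin (n + 1) → A) (l : Fin (n + 1)) (i : Fin n) :
    H26.BlowPerfect.pres a l (MvPolynomial.X i) * algebraMap A _ (a l) =
      algebraMap A _ (a (l.succAbove i)) := by
  refine Subtype.ext ?_
  rw [Subalgebra.coe_mul, H26.BlowPerfect.coe_pres, MvPolynomial.aeval_X]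
  exact IsLocalization.mk'_spec _ _ _

/-- The algebra of a chart. -/
theorem chart_alg {A B : Type u} [CommRing A] [CommRing B] (a : Fin (n + 1) → A) (l : Fin (n + 1))
    (hA : Acyc a) {I : Ideal A} (hI : I = Ideal.span (Set.range a))
    (θ : BlowUp.affineAlgebra A I (a l) ≃+* B) (ψ : MvPolynomial (Fin n) A →+* B)
    (hC : ∀ r, ψ (MvPolynomial.C r) = θ (algebraMap A _ r))
    (hX : ∀ i, ψ (MvPolynomial.X i) * θ (algebraMap A _ (a l)) = θ (algebraMap A _ (a (l.succAbove i)))) :
    Function.Surjective ψ ∧ Acyc (H26.BlowPerfect.rel a l) ∧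
      RingHom.ker ψ = Ideal.span (Set.range (H26.BlowPerfect.rel a l)) := by
  subst hI
  obtain ⟨hac, hker⟩ := H26.BlowPerfect.acyc_rel a l hA
  have hψ : ψ = θ.toRingHom.comp (H26.BlowPerfect.pres a l).toRingHom := by
    refine MvPolynomial.ringHom_ext (fun r => ?_) (fun i => ?_)
    · rw [hC]
      exact (congrArg θ ((H26.BlowPerfect.pres a l).commutes r)).symm
    · have hnzd : θ (algebraMap A _ (a l)) ∈ nonZeroDivisors B :=
        nzd_map θ (algebraMap_gen_mem_nonZeroDivisors (Ideal.span (Set.range a)) (a l))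
      refine (mul_cancel_right_mem_nonZeroDivisors hnzd).1 ((hX i).trans ?_)
      exact (eq_map_mul θ (pres_X a l i)).symm
  refine ⟨hψ ▸ θ.surjective.comp (H26.BlowPerfect.pres_surjective a l), hac, ?_⟩
  rw [hψ, ← hker]
  exact RingHom.ker_equiv_comp _ θ

variable (hb : IsBasis b)

variable (u' q) in
/-- The equations of the embedding on a standard chart. -/
noncomputable def relP (l : Fin (n + 1)) (i : Fin n) : Γ(P, Univ.locus q b l) :=
  π.appLE U.1 _ (Univ.locus_le (q := q) b l) (img u' b l) * Univ.coef (q := q) b l (l.succAbove i) -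
    π.appLE U.1 _ (Univ.locus_le (q := q) b l) (img u' b (l.succAbove i))

include D hb in
/-- The restriction of the embedding to a standard chart. -/
theorem locus_spec' (hJU : J.ideal U = Ideal.span (Set.range (img u' b))) (hA : Acyc (img u' b))
    (l : Fin (n + 1)) :
    IsAffineOpen (Univ.locus q b l) ∧ IsClosedImmersion (j ∣_ Univ.locus q b l) ∧
      Acyc (relP u' q b l) ∧
        RingHom.ker (j.app (Univ.locus q b l)).hom = Ideal.span (Set.range (relP u' q b l)) := by
  set V := Univ.locus q b l with hV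
  set O := j ⁻¹ᵁ V
  -- the locus is a standard affine space
  haveI := Univ.isOpenImmersion_chart U.2 b D.bundle hb l
  let h' : Univ.Std U.1 l ⟶ V.toScheme := IsOpenImmersion.lift V.ι (Univ.chart U.2 b D.bundle hb l) (by
    rw [Scheme.Opens.range_ι]
    exact (Univ.range_chart U.2 b D.bundle hb l).le)
  have hh : h' ≫ V.ι = Univ.chart U.2 b D.bundle hb l := IsOpenImmersion.lift_fac _ _ _
  haveI : IsIso (Univ.coordMap (q := q) b l) := ⟨h', by
    rw [← cancel_mono V.ι, Category.assoc, hh, Univ.coordMap_chart, Category.id_comp],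
    Univ.lift_comp_coordMap U.2 b D.bundle hb l h' hh⟩
  haveI : IsIso (Univ.coordMap (q := q) b l).appTop :=
    inferInstanceAs (IsIso (Scheme.Γ.map (Univ.coordMap (q := q) b l).op))
  have hVa : IsAffineOpen V := IsAffine.of_isIso (Univ.coordMap (q := q) b l)
  have hpsi : Function.Bijective (Univ.psi (q := q) b l) := by
    have h1 : (fun p => V.topIso.inv (Univ.psi (q := q) b l p)) =
        fun p => (Univ.coordMap (q := q) b l).appTop (Univ.fn l p) :=
      funext fun p => (Univ.coordMap_appLE b l p).symm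
    refine (Function.Bijective.of_comp_iff' (ConcreteCategory.bijective_of_isIso V.topIso.inv) _).1 ?_
    show Function.Bijective fun p => V.topIso.inv (Univ.psi (q := q) b l p)
    rw [h1]
    exact (ConcreteCategory.bijective_of_isIso (Univ.coordMap (q := q) b l).appTop).comp
      (ConcreteCategory.bijective_of_isIso
        (Scheme.ΓSpecIso (CommRingCat.of (MvPolynomial (Var l) Γ(X, U.1)))).inv)
  -- the chart of the blow-up
  let i : Idx J := ⟨U, img u' b l, img_mem D b hJU l⟩
  have hO : O = chartOpen f i := preimage_locus D b hJU l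
  obtain ⟨ε, hε⟩ : ∃ ε : O.toScheme ≅ chart i, ε.hom ≫ chartMap i = O.ι ≫ f := by
    rw [hO]; exact exists_chartIso D.blow i
  have hOa : IsAffineOpen O := IsAffine.of_isIso ε.hom
  have hOU : O ≤ f ⁻¹ᵁ U.1 := fun x hx => by
    have h' : π (j x) ∈ U.1 := Univ.locus_le (q := q) b l hx
    rw [← Scheme.Hom.comp_apply, D.over'] at h'
    exact h'
  haveI : IsIso ε.hom.appTop := inferInstanceAs (IsIso (Scheme.Γ.map ε.hom.op))
  let θ₀ : chartRing i ≅ Γ(X', O) :=
    (Scheme.ΓSpecIso (chartRing i)).symm ≪≫ asIso ε.hom.appTop ≪≫ O.topIso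
  have hθ : chartRingMap i ≫ θ₀.hom = f.appLE U.1 O hOU := by
    have e1 : (⊤ : O.toScheme.Opens) ≤ (ε.hom ≫ chartMap i) ⁻¹ᵁ U.1 := fun x _ =>
      top_le_chartMap i (x := ε.hom x) trivial
    have e2 : (chartMap i).appLE U.1 ⊤ (top_le_chartMap i) ≫ ε.hom.appTop =
        (O.ι ≫ f).appLE U.1 ⊤ (hε ▸ e1) := by
      have : ε.hom.appTop = ε.hom.appLE ⊤ ⊤ le_top := Scheme.Hom.app_eq_appLE ε.hom
      rw [this, Scheme.Hom.appLE_comp_appLE]
      exact congr_appLE hε _ _ _
    show chartRingMap i ≫ (Scheme.ΓSpecIso (chartRing i)).inv ≫ ε.hom.appTop ≫ O.topIso.hom = _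
    rw [← Category.assoc, ← appLE_chartMap, ← Category.assoc, e2,
      ← Scheme.Hom.appLE_comp_appLE O.ι f U.1 O ⊤ hOU (fun x _ => x.2)]
    simp [Scheme.Opens.topIso, Scheme.Opens.ι_appLE]
    refine (congrArg (f.appLE U.1 O hOU ≫ ·) ?_).trans (Category.comp_id _)
    exact (X'.presheaf.map_comp _ _).symm.trans ((congrArg X'.presheaf.map (Subsingleton.elim _ (𝟙 _))).trans (X'.presheaf.map_id _))
  let θ : BlowUp.affineAlgebra Γ(X, U.1) (J.ideal U) (img u' b l) ≃+* Γ(X', O) :=
    θ₀.commRingCatIsoToRingEquiv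
  -- the map
  let Φ : Γ(P, V) →+* Γ(X', O) := (j.app V).hom
  let r : MvPolynomial (Fin n) Γ(X, U.1) ≃ₐ[Γ(X, U.1)] MvPolynomial (Var l) Γ(X, U.1) :=
    MvPolynomial.renameEquiv _ (finSuccAboveEquiv l)
  let ψ₀ : MvPolynomial (Fin n) Γ(X, U.1) ≃+* Γ(P, V) :=
    r.toRingEquiv.trans (RingEquiv.ofBijective (Univ.psi (q := q) b l) hpsi)
  have hΦ : ∀ k, Φ (Univ.coef (q := q) b l k) * θ (algebraMap _ _ (img u' b l)) =
      θ (algebraMap _ _ (img u' b k)) := by
    intro k
    have hθ' : ∀ a, θ (algebraMap _ _ a) = f.appLE U.1 O hOU a := fun a => ConcreteCategory.congr_hom hθ a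
    rw [hθ', hθ', ← msec_val D b k hOU, ← msec_val D b l hOU]
    refine (Scheme.Modules.Hom.app_smul (_root_.ClSub.idealModι (BlowUp.exceptional f J))
      (Φ (Univ.coef (q := q) b l k)) (msec D b l O hOU)).symm.trans ?_
    refine congrArg ((_root_.ClSub.idealModι (BlowUp.exceptional f J)).app O) ?_
    have h1 := congrArg (pbRes j O1 (le_refl O)) (Univ.coef_spec (q := q) b l k)
    rw [pbRes_smul, Sect.pbRes_rs, Sect.pbRes_rs, ← Scheme.Hom.app_eq_appLE] at h1
    have h2 := congrArg (D.iso.hom.app O) h1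
    rw [Scheme.Modules.Hom.app_smul] at h2
    exact h2
  have hψ := chart_alg (img u' b) l hA hJU θ (Φ.comp ψ₀.toRingHom) (fun a => by
    show (j.app V).hom (Univ.psi (q := q) b l (MvPolynomial.rename _ (MvPolynomial.C a))) =
      θ₀.hom ((chartRingMap i).hom a)
    rw [MvPolynomial.rename_C, Univ.psi_C, Scheme.Hom.app_eq_appLE]
    have h1 : π.appLE U.1 V (Univ.locus_le (q := q) b l) ≫ j.appLE V O le_rfl = chartRingMap i ≫ θ₀.hom := by
      rw [Scheme.Hom.appLE_comp_appLE, hθ]
      exact congr_appLE D.over' _ _ _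
    exact ConcreteCategory.congr_hom h1 a) (fun k => by
    show Φ (Univ.psi (q := q) b l (MvPolynomial.rename _ (MvPolynomial.X k))) * _ = _
    rw [MvPolynomial.rename_X, Univ.psi, MvPolynomial.eval₂Hom_X']
    exact hΦ (l.succAbove k))
  obtain ⟨hsurj, hac, hker⟩ := hψ
  have hΦs : Function.Surjective Φ := Function.Surjective.of_comp (g := ψ₀) hsurj
  have hrel : relP u' q b l = fun k => ψ₀ (H26.BlowPerfect.rel (img u' b) l k) := funext fun k => by
    show _ = Univ.psi (q := q) b l (MvPolynomial.rename _ (MvPolynomial.C _ * MvPolynomial.X k - MvPolynomial.C _))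
    simp only [map_sub, map_mul, MvPolynomial.rename_C, MvPolynomial.rename_X, Univ.psi_C]
    rw [Univ.psi, MvPolynomial.eval₂Hom_X']
    rfl
  refine ⟨hVa, ?_, ?_, ?_⟩
  · haveI : IsAffine V.toScheme := hVa
    rw [HasAffineProperty.iff_of_isAffine (P := @IsClosedImmersion)]
    refine ⟨hOa, ?_⟩
    rw [morphismRestrict_appTop]
    have h0 : Function.Surjective (j.app (V.ι ''ᵁ ⊤)).hom := by
      rw [V.ι_image_top]
      exact hΦs
    intro y
    obtain ⟨y', rfl⟩ := (ConcreteCategory.bijective_of_isIso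
      (X'.presheaf.map (eqToHom (image_morphismRestrict_preimage j V ⊤)).op)).2 y
    obtain ⟨x, rfl⟩ := h0 y'
    exact ⟨x, rfl⟩
  · rw [hrel]
    exact Synt92.CubeBase.acyc_flat_ringHom ψ₀.toRingHom (RingHom.Flat.of_bijective ψ₀.bijective) _ hac
  · show RingHom.ker Φ = _
    have h1 : RingHom.ker Φ = (RingHom.ker (Φ.comp ψ₀.toRingHom)).map ψ₀.toRingHom := by
      rw [← RingHom.comap_ker]
      exact (Ideal.map_comap_of_surjective ψ₀.toRingHom ψ₀.surjective _).symm
    rw [h1, hker, Ideal.map_span, ← Set.range_comp, hrel]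
    rfl

include D hb in
/-- The restriction of the embedding to a standard chart, by a regular sequence. -/
theorem locus_spec (hJU : J.ideal U = Ideal.span (Set.range (img u' b))) (hA : Acyc (img u' b))
    (l : Fin (n + 1)) :
    IsAffineOpen (Univ.locus q b l) ∧ IsClosedImmersion (j ∣_ Univ.locus q b l) ∧
      ∃ rs : List Γ(P, Univ.locus q b l), rs.length = n ∧
        LCI.IsKoszulRegularSeq Γ(P, Univ.locus q b l) rs ∧
        RingHom.ker (j.app (Univ.locus q b l)).hom = Ideal.ofList rs := by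
  obtain ⟨h1, h2, h3, h4⟩ := locus_spec' D b hb hJU hA l
  refine ⟨h1, h2, List.ofFn (relP u' q b l), List.length_ofFn,
    Synt92.CubeBase.isKoszulRegularSeq_of_acyc _ h3, ?_⟩
  rw [h4, Ideal.ofList]
  congr 1
  ext x
  simp [List.mem_ofFn]

end Chart

end Groth.Agent.Lib.BlowPB.Chart
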