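import Groth.Agent.Lib.Cyc.PB.Univ
import Groth.Agent.Lib.QCoh.Localizing
import Groth.Agent.Lib.Flat55.QCohFP

/-!
# A basis of sections over an affine open is a basis of the restricted module
-/

set_option autoImplicit false
universe u

open CategoryTheory CategoryTheory.Limits AlgebraicGeometry Opposite TopologicalSpace
open Groth.Agent.Lib TensorMod TensorMod.Dual TensorMod.Basis

namespace Groth.Agent.Lib.BlowPB.Frame

variable {X : Scheme.{u}} {M : X.Modules} {U : X.Opens} {n : ℕ}

theorem comb_rf (e : Fin n → Γ(M, U)) {V : X.Opens} (h : V ≤ U) (a : Fin n → Γ(X, U)) :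
    rs M h (∑ k, a k • e k) = comb e h fun k => rf h (a k) := by
  simp only [comb, rs_sum, rs_smul]

variable [M.IsQuasicoherent] (hU : IsAffineOpen U) (b : Module.Basis (Fin n) Γ(X, U) Γ(M, U))

include hU in
theorem bijective_basicOpen (f : Γ(X, U)) :
    Function.Bijective (comb (fun k => b k) (X.basicOpen_le f)) := by
  have hu : IsUnit (rf (X.basicOpen_le f) f) :=
    RingedSpace.isUnit_res_basicOpen X.toLocallyRingedSpace.toRingedSpace f
  have hloc := QCoh.Localizing.localizes_of_isAffineOpen M hU f
  constructor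
  · intro a a' haa
    have := hU.isLocalization_basicOpen f
    obtain ⟨⟨_, N, rfl⟩, hN⟩ := IsLocalization.exist_integer_multiples_of_finite
      (Submonoid.powers f) (fun k => a k - a' k)
    choose c hc using hN
    have hc' : ∀ k, rf (X.basicOpen_le f) (c k) =
        rf (X.basicOpen_le f) f ^ N * (a k - a' k) := fun k => by
      have := hc k
      rw [Algebra.smul_def, map_pow] at this
      exact this
    have hs : rs M (X.basicOpen_le f) (∑ k, c k • b k) = 0 := by
      rw [comb_rf]
      simp only [comb, hc', mul_smul, sub_smul, smul_sub, Finset.sum_sub_distrib, ← Finset.smul_sum]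
      rw [sub_eq_zero]
      exact congrArg _ haa
    obtain ⟨q, hq'⟩ := hloc.sep _ hs
    rw [Finset.smul_sum] at hq'
    simp only [smul_smul] at hq'
    funext k
    have hck := congrArg (rf (X.basicOpen_le f)) (Fintype.linearIndependent_iff.1 b.linearIndependent _ hq' k)
    rw [show rf (X.basicOpen_le f) (f ^ q * c k) = rf _ (f ^ q) * rf _ (c k) from map_mul _ _ _,
      show rf (X.basicOpen_le f) (f ^ q) = rf _ f ^ q from map_pow _ _ _, hc', ← mul_assoc, ← pow_add,
      show rf (X.basicOpen_le f) (0 : Γ(X, U)) = 0 from map_zero _, (hu.pow _).mul_right_eq_zero,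
      sub_eq_zero] at hck
    exact hck
  · intro s
    obtain ⟨q, t, ht⟩ := hloc.ext' s
    obtain ⟨v, hv⟩ := (hu.pow q).exists_left_inv
    refine ⟨fun k => v * rf (X.basicOpen_le f) (b.repr t k), ?_⟩
    have h1 : comb (fun k => b k) (X.basicOpen_le f) (fun k => rf (X.basicOpen_le f) (b.repr t k)) =
        rf (X.basicOpen_le f) f ^ q • s := by
      rw [← comb_rf, b.sum_repr]
      exact ht
    simp only [comb, mul_smul, ← Finset.smul_sum]
    exact (congrArg (v • ·) h1).trans (by rw [smul_smul, hv, one_smul])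

include hU in
/-- A basis of the sections over an affine open is a basis over every smaller open. -/
theorem isBasis : IsBasis fun k => b k := by
  intro V hV
  set e := fun k => b k
  let D : {f : Γ(X, U) // X.basicOpen f ≤ V} → X.Opens := fun f => X.basicOpen f.1
  have hD : V ≤ iSup D := fun x hx => by
    obtain ⟨f, hf, hxf⟩ := hU.exists_basicOpen_le (⟨x, hx⟩ : V) (hV hx)
    exact Opens.mem_iSup.2 ⟨⟨f, hf⟩, hxf⟩
  have hb : ∀ (W : X.Opens) (hW : W ≤ U), (∃ g : Γ(X, U), W = X.basicOpen g) → Function.Bijective (comb e hW) := by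
    rintro W hW ⟨g, rfl⟩
    exact bijective_basicOpen hU b g
  constructor
  · intro a a' haa
    funext k
    refine TopCat.Sheaf.eq_of_locally_eq' X.sheaf D V (fun f => homOfLE f.2) hD _ _ fun f => ?_
    have := congrArg (rs M f.2) haa
    rw [rs_comb, rs_comb] at this
    exact congrFun ((hb _ _ ⟨f.1, rfl⟩).1 this) k
  · intro y
    choose a ha using fun f : {f : Γ(X, U) // X.basicOpen f ≤ V} =>
      (hb (D f) (f.2.trans hV) ⟨f.1, rfl⟩).2 (rs M f.2 y)
    have hglue : ∀ k, ∃ r : Γ(X, V), ∀ f : {f : Γ(X, U) // X.basicOpen f ≤ V}, rf f.2 r = a f k := by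
      intro k
      obtain ⟨r, hr, -⟩ := TopCat.Sheaf.existsUnique_gluing' X.sheaf D V
        (fun f => homOfLE f.2) hD (fun f => a f k) fun i j => by
          change rf (inf_le_left : D i ⊓ D j ≤ D i) (a i k) =
            rf (inf_le_right : D i ⊓ D j ≤ D j) (a j k)
          have hi := congrArg (rs M (inf_le_left : D i ⊓ D j ≤ D i)) (ha i)
          have hj := congrArg (rs M (inf_le_right : D i ⊓ D j ≤ D j)) (ha j)
          simp only [rs_comb, rs_rs] at hi hj
          exact congrFun ((hb _ _ ⟨i.1 * j.1, (X.basicOpen_mul _ _).symm⟩).1 (hi.trans hj.symm)) k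
      exact ⟨r, hr⟩
    choose r hr using hglue
    refine ⟨r, HomGlue.sections_ext_cover D M hD fun f => ?_⟩
    have hx : V ⊓ D f ≤ D f := inf_le_right
    have h2 := congrArg (rs M hx) (ha f)
    simp only [rs_comb, rs_rs] at h2 ⊢
    rw [← h2]
    congr 1
    funext k
    rw [← hr k f, rf_rf]

end Groth.Agent.Lib.BlowPB.Frame
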